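import Cfsg.Agent.S0113
import Cfsg.Agent.S0115
import Cfsg.Agent.S3157
import Cfsg.Agent.Balance.ExtendedLayer
import Cfsg.Agent.Frobenius.Zassenhaus.Identify
import Cfsg.Agent.Frobenius57.SimpleSixty
import Cfsg.Agent.Eq.Def_CaseTheorems

/-!
# Extensions of the group of order 60 with a centralizer of order four

A perfect group `G` with a normal subgroup `N` of index 60 and an element `x` outside `N` with
`x ^ 2` in `N` and a centralizer of order four is an extension of an abelian group of odd order by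
`PSL(2,5)` or `SL(2,5)`.
-/

set_option autoImplicit false

open Cfsg
open scoped commutatorElement

namespace CfsgLib.ConstantFour

universe u

theorem alt_five_centralizer : ∀ a : alternatingGroup (Fin 5), a * a = 1 → a ≠ 1 →
    (Finset.univ.filter fun b : alternatingGroup (Fin 5) => b * a = a * b).card = 4 := by
  decide +kernel

theorem alt_five_no_four : ∀ a : alternatingGroup (Fin 5), a * a * (a * a) = 1 → a * a = 1 := by
  decide +kernel

theorem alt_five_conj : ∀ a b : alternatingGroup (Fin 5), a * a = 1 → a ≠ 1 → b * b = 1 → b ≠ 1 →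
    ∃ c : alternatingGroup (Fin 5), c * a = b * c := by
  decide +kernel

/-- An automorphism inverting a group makes it commutative. -/
theorem commute_of_inverts {G : Type u} [Group G] {D : Subgroup G} {t : G}
    (h : ∀ d ∈ D, t * d * t⁻¹ = d⁻¹) : ∀ a ∈ D, ∀ b ∈ D, a * b = b * a := by
  intro a ha b hb
  have h1 := h _ (mul_mem ha hb)
  have h2 : t * (a * b) * t⁻¹ = a⁻¹ * b⁻¹ := by rw [← h a ha, ← h b hb]; group
  rw [h2, mul_inv_rev] at h1
  have := congrArg (·⁻¹) h1
  simp only [mul_inv_rev, inv_inv] at this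
  exact this.symm

/-- A fixed-point-free involutory action on a group of odd order inverts it. -/
theorem inverts_of_fixedPointFree {G : Type u} [Group G] [Finite G] {D : Subgroup G} {t : G}
    (hD : ¬ 2 ∣ Nat.card D) (hnorm : ∀ d ∈ D, t * d * t⁻¹ ∈ D)
    (hsq : ∀ d ∈ D, t * (t * d * t⁻¹) * t⁻¹ = d) (hfix : ∀ d ∈ D, t * d * t⁻¹ = d → d = 1) :
    ∀ d ∈ D, t * d * t⁻¹ = d⁻¹ := by
  let f : D → D := fun a => ⟨(a : G)⁻¹ * (t * a * t⁻¹), mul_mem (inv_mem a.2) (hnorm _ a.2)⟩
  have hinj : Function.Injective f := by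
    intro a b hab
    have h : (a : G)⁻¹ * (t * a * t⁻¹) = (b : G)⁻¹ * (t * b * t⁻¹) := congrArg Subtype.val hab
    have h' : t * ((b : G) * (a : G)⁻¹) * t⁻¹ = (b : G) * (a : G)⁻¹ := by
      calc t * ((b : G) * (a : G)⁻¹) * t⁻¹ = (t * b * t⁻¹) * (t * a * t⁻¹)⁻¹ := by group
        _ = (b : G) * ((b : G)⁻¹ * (t * b * t⁻¹)) * ((a : G)⁻¹ * (t * a * t⁻¹))⁻¹ * (a : G)⁻¹ := by
          group
        _ = _ := by rw [h]; group
    exact (Subtype.ext (mul_inv_eq_one.1 (hfix _ (mul_mem b.2 (inv_mem a.2)) h'))).symm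
  intro d hd
  obtain ⟨a, ha⟩ := (Finite.injective_iff_surjective.1 hinj) ⟨d, hd⟩
  have e : (a : G)⁻¹ * (t * a * t⁻¹) = d := congrArg Subtype.val ha
  rw [← e]
  calc t * ((a : G)⁻¹ * (t * a * t⁻¹)) * t⁻¹
      = (t * a * t⁻¹)⁻¹ * (t * (t * a * t⁻¹) * t⁻¹) := by group
    _ = _ := by rw [hsq _ a.2]; group

/-- The elements commuting with `x`, as a fibre count: if `Φ w = x⁻¹ * (w * x * w⁻¹)` maps a
subgroup `W` containing the centralizer of `x` into `T` and `W` is four times as large as `T`,
then `Φ` is onto `T`. -/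
theorem exists_conj_eq {G : Type u} [Group G] [Finite G] {x : G}
    (hC : Nat.card (Subgroup.centralizer ({x} : Set G)) = 4) (W T : Subgroup G)
    (hCW : Subgroup.centralizer ({x} : Set G) ≤ W)
    (hmap : ∀ w ∈ W, x⁻¹ * (w * x * w⁻¹) ∈ T) (hcard : Nat.card W = 4 * Nat.card T) :
    ∀ t ∈ T, ∃ w ∈ W, w * x * w⁻¹ = x * t := by
  classical
  haveI := Fintype.ofFinite G
  let sW : Finset G := Finset.univ.filter (· ∈ W)
  let sT : Finset G := Finset.univ.filter (· ∈ T)
  have hcW : sW.card = Nat.card W := by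
    rw [Nat.card_eq_fintype_card, Fintype.card_subtype]
  have hcT : sT.card = Nat.card T := by
    rw [Nat.card_eq_fintype_card, Fintype.card_subtype]
  let F : G → G := fun w => x⁻¹ * (w * x * w⁻¹)
  have hsub : sW.image F ⊆ sT := fun y hy => by
    obtain ⟨w, hw, rfl⟩ := Finset.mem_image.1 hy
    exact Finset.mem_filter.2 ⟨Finset.mem_univ _, hmap w (Finset.mem_filter.1 hw).2⟩
  have hfib : ∀ y ∈ sW.image F, (sW.filter fun w => F w = y).card = 4 := by
    intro y hy
    obtain ⟨w₀, hw₀, rfl⟩ := Finset.mem_image.1 hy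
    have hw₀' := (Finset.mem_filter.1 hw₀).2
    rw [← hC, Nat.card_eq_fintype_card, Fintype.card_subtype]
    refine Finset.card_nbij' (fun w => w₀⁻¹ * w) (fun c => w₀ * c) ?_ ?_ ?_ ?_
    · intro w hw
      simp only [Finset.coe_filter, Set.mem_ofPred_eq, F, mul_right_inj] at hw
      simp only [Finset.coe_filter, Finset.mem_univ, true_and, Set.mem_ofPred_eq,
        Subgroup.mem_centralizer_singleton_iff]
      calc w₀⁻¹ * w * x = w₀⁻¹ * (w * x * w⁻¹) * w := by group
        _ = _ := by rw [hw.2]; group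
    · intro c hc
      simp only [Finset.coe_filter, Finset.mem_univ, true_and, Set.mem_ofPred_eq] at hc
      simp only [Finset.coe_filter, Set.mem_ofPred_eq, F, mul_right_inj, sW, Finset.mem_filter,
        Finset.mem_univ, true_and]
      refine ⟨mul_mem hw₀' (hCW hc), ?_⟩
      calc w₀ * c * x * (w₀ * c)⁻¹ = w₀ * (c * x) * c⁻¹ * w₀⁻¹ := by group
        _ = _ := by rw [Subgroup.mem_centralizer_singleton_iff.1 hc]; group
    · intro w _
      simp
    · intro c _
      simp
  have himg : sW.image F = sT := by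
    refine Finset.eq_of_subset_of_card_le hsub ?_
    have := Finset.card_eq_sum_card_image F sW
    rw [Finset.sum_const_nat hfib, hcW, hcard] at this
    omega
  intro t ht
  obtain ⟨w, hw, hwt⟩ := Finset.mem_image.1 (show t ∈ sW.image F by
    rw [himg]; exact Finset.mem_filter.2 ⟨Finset.mem_univ t, ht⟩)
  exact ⟨w, (Finset.mem_filter.1 hw).2, by rw [← hwt]; simp only [F]; group⟩

variable {G : Type u} [Group G] [Finite G]

/-- A normal 2-complement for a normal subgroup with a cyclic Sylow 2-subgroup. -/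
theorem exists_odd_complement (N : Subgroup G) [N.Normal] (T : Subgroup G) (hTN : T ≤ N)
    (hT : IsCyclic T) {t : ℕ} (hTc : Nat.card T = 2 ^ t) (ht : 0 < t)
    (hsyl : (Nat.card N).factorization 2 = t) :
    ∃ O : Subgroup G, O.Normal ∧ O ≤ N ∧ Nat.card N = Nat.card O * 2 ^ t ∧ ¬ 2 ∣ Nat.card O := by
  classical
  haveI : Fact (Nat.Prime 2) := ⟨Nat.prime_two⟩
  have hTc' : Nat.card (T.subgroupOf N) = 2 ^ t := by
    rw [Nat.card_congr (Subgroup.subgroupOfEquivOfLe hTN).toEquiv, hTc]
  obtain ⟨S, hS⟩ := (IsPGroup.of_card hTc').exists_le_sylow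
  have hSc : Nat.card (S : Subgroup N) = 2 ^ t := by rw [S.card_eq_multiplicity, hsyl]
  have hST : T.subgroupOf N = (S : Subgroup N) :=
    Subgroup.eq_of_le_of_card_ge hS (by rw [hSc, hTc'])
  have hcyc : IsCyclic (S : Subgroup N) := by
    rw [← hST]
    exact isCyclic_of_surjective (Subgroup.subgroupOfEquivOfLe hTN).symm
      (Subgroup.subgroupOfEquivOfLe hTN).symm.surjective
  have h2 : 2 ∣ Nat.card N := by
    have := Subgroup.card_subgroup_dvd_card (S : Subgroup N)
    rw [hSc] at this
    exact (dvd_pow_self 2 ht.ne').trans this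
  have hnc := IsCyclic.normalizer_le_centralizer ((Nat.minFac_eq_two_iff _).2 h2) hcyc
  have hker := MonoidHom.ker_transferSylow_isComplement' S hnc
  set f := MonoidHom.transferSylow S hnc
  have hcard : Nat.card f.ker * 2 ^ t = Nat.card N := by rw [← hSc]; exact hker.card_mul
  have hodd : ¬ 2 ∣ Nat.card f.ker := by
    intro hd
    have h1 : 2 ^ (t + 1) ∣ Nat.card N := by
      rw [← hcard, pow_succ']
      exact Nat.mul_dvd_mul_right hd _
    have := (Nat.prime_two.pow_dvd_iff_le_factorization Nat.card_pos.ne').1 h1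
    omega
  have hchar : ∀ n : N, n ∈ f.ker ↔ n ^ Nat.card f.ker = 1 := by
    intro n
    refine ⟨fun hn => ?_, fun hn => ?_⟩
    · have : (⟨n, hn⟩ : f.ker) ^ Nat.card f.ker = 1 := pow_card_eq_one'
      exact congrArg Subtype.val this
    · rw [MonoidHom.mem_ker]
      have h1 : f n ^ Nat.card f.ker = 1 := by rw [← map_pow, hn, map_one]
      have h2 : f n ^ 2 ^ t = 1 := by rw [← hSc]; exact pow_card_eq_one'
      have h3 := pow_gcd_eq_one.mpr ⟨h1, h2⟩
      rwa [Nat.Coprime.gcd_eq_one, pow_one] at h3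
      exact Nat.Coprime.pow_right _ ((Nat.prime_two.coprime_iff_not_dvd.2 hodd).symm)
  refine ⟨f.ker.map N.subtype, ⟨?_⟩, ?_, ?_, ?_⟩
  · rintro _ ⟨n, hn, rfl⟩ g
    have hmem : g * (n : G) * g⁻¹ ∈ N := Subgroup.Normal.conj_mem inferInstance _ n.2 g
    refine ⟨⟨g * (n : G) * g⁻¹, hmem⟩, (hchar _).2 (Subtype.ext ?_), rfl⟩
    show (g * (n : G) * g⁻¹) ^ Nat.card f.ker = 1
    rw [conj_pow, show ((n : G) ^ Nat.card f.ker) = 1 from congrArg Subtype.val ((hchar n).1 hn)]
    group
  · rintro _ ⟨n, -, rfl⟩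
    exact n.2
  · rw [Subgroup.card_map_of_injective N.subtype_injective, hcard]
  · rwa [Subgroup.card_map_of_injective N.subtype_injective]

/-- The data used below. -/
structure Ext (N : Subgroup G) (x : G) : Prop where
  perfect : commutator G = ⊤
  normal : N.Normal
  card : N.index = 60
  simple : ∀ M : Subgroup G, M.Normal → N ≤ M → M = N ∨ M = ⊤
  not_mem : x ∉ N
  sq_mem : x ^ 2 ∈ N
  card_centralizer : Nat.card (Subgroup.centralizer ({x} : Set G)) = 4
  preimage : ∃ W : Subgroup G, Subgroup.centralizer ({x} : Set G) ≤ W ∧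
    (∀ w ∈ W, x⁻¹ * (w * x * w⁻¹) ∈ N) ∧ Nat.card W = 4 * Nat.card N
  exponent : ∀ a : G, a ^ 4 ∈ N → a ^ 2 ∈ N
  conj : ∀ a : G, a ∉ N → a ^ 2 ∈ N → ∃ g, (g * x * g⁻¹)⁻¹ * a ∈ N

variable {N : Subgroup G} {x : G}

theorem Ext.sq_mem_of_pow (h : Ext N x) {a : G} : ∀ k : ℕ, a ^ 2 ^ k ∈ N → a ^ 2 ∈ N
  | 0, hk => by rw [pow_zero, pow_one] at hk; exact pow_mem hk 2
  | 1, hk => by rwa [pow_one] at hk
  | k + 2, hk => by
    refine h.sq_mem_of_pow (k + 1) ?_
    rw [pow_succ 2 k, pow_mul]
    apply h.exponent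
    rwa [← pow_mul, show 2 ^ k * 4 = 2 ^ (k + 2) by ring]

/-- Every element of the coset `x * N` is conjugate to `x`. -/
theorem Ext.coset_conj (h : Ext N x) {n : G} (hn : n ∈ N) : ∃ g, g * x * g⁻¹ = x * n := by
  obtain ⟨W, hCW, hmap, hcard⟩ := h.preimage
  obtain ⟨w, -, hw⟩ := exists_conj_eq h.card_centralizer W N hCW hmap hcard n hn
  exact ⟨w, hw⟩

theorem Ext.centralizer_inf (h : Ext N x) :
    Nat.card ↥(N ⊓ Subgroup.centralizer ({x} : Set G)) ≤ 2 := by
  have hd : Nat.card ↥(N ⊓ Subgroup.centralizer ({x} : Set G)) ∣ 4 :=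
    h.card_centralizer ▸ Subgroup.card_dvd_of_le inf_le_right
  have h4 : Nat.card ↥(N ⊓ Subgroup.centralizer ({x} : Set G)) ≠ 4 := by
    intro e
    have := Subgroup.eq_of_le_of_card_ge
      (inf_le_right : N ⊓ Subgroup.centralizer ({x} : Set G) ≤ _) (by rw [e, h.card_centralizer])
    have hx : x ∈ Subgroup.centralizer ({x} : Set G) :=
      Subgroup.mem_centralizer_singleton_iff.2 rfl
    rw [← this] at hx
    exact h.not_mem hx.1
  have := Nat.le_of_dvd (by norm_num) hd
  interval_cases (Nat.card ↥(N ⊓ Subgroup.centralizer ({x} : Set G))) <;> omega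

theorem Ext.pow_four (h : Ext N x) : x ^ 4 = 1 := by
  have hx : x ∈ Subgroup.centralizer ({x} : Set G) :=
    Subgroup.mem_centralizer_singleton_iff.2 rfl
  have : (⟨x, hx⟩ : Subgroup.centralizer ({x} : Set G)) ^ 4 = 1 := by
    rw [← h.card_centralizer]; exact pow_card_eq_one'
  exact congrArg Subtype.val this

/-- A Sylow 2-subgroup through the centralizer of `x`. -/
theorem Ext.exists_sylow (h : Ext N x) :
    ∃ (P : Sylow 2 G) (t : ℕ), Subgroup.centralizer ({x} : Set G) ≤ P ∧
      (Nat.card N).factorization 2 = t ∧ Nat.card ↥((P : Subgroup G) ⊓ N) = 2 ^ t ∧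
      Nat.card (P : Subgroup G) = 4 * 2 ^ t ∧
      (∀ a ∈ (P : Subgroup G), a ^ 2 ∈ (P : Subgroup G) ⊓ N) ∧
      (∀ a ∈ (P : Subgroup G), ∀ b ∈ (P : Subgroup G), ⁅a, b⁆ ∈ (P : Subgroup G) ⊓ N) ∧
      ∀ s ∈ (P : Subgroup G) ⊓ N, ∃ w ∈ (P : Subgroup G), w * x * w⁻¹ = x * s := by
  classical
  haveI : Fact (Nat.Prime 2) := ⟨Nat.prime_two⟩
  haveI := h.normal
  obtain ⟨P, hP⟩ := (IsPGroup.of_card (n := 2) (by rw [h.card_centralizer]; norm_num) :
    IsPGroup 2 (Subgroup.centralizer ({x} : Set G))).exists_le_sylow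
  set t := (Nat.card N).factorization 2
  let π := QuotientGroup.mk' N
  have hfac : (60 : ℕ).factorization 2 = 2 := by
    rw [Nat.factorization_def 60 Nat.prime_two]; decide +kernel
  have hG : Nat.card G = 60 * Nat.card N := by
    rw [← N.index_mul_card, h.card]
  have hPc : Nat.card (P : Subgroup G) = 4 * 2 ^ t := by
    rw [P.card_eq_multiplicity, hG, Nat.factorization_mul (by norm_num) Nat.card_pos.ne',
      Finsupp.add_apply, hfac, pow_add]
    norm_num [t]
  have hmap : Nat.card ↥((P : Subgroup G).map π) = 4 := by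
    have := (P.mapSurjective (QuotientGroup.mk'_surjective N)).card_eq_multiplicity
    rw [Sylow.coe_mapSurjective] at this
    rw [this, ← Subgroup.index_eq_card, h.card, hfac]
    norm_num
  have hinf : Nat.card ↥((P : Subgroup G) ⊓ N) = 2 ^ t := by
    let g : (P : Subgroup G) →* G ⧸ N := π.comp (P : Subgroup G).subtype
    have hker : g.ker = N.subgroupOf (P : Subgroup G) := by
      ext a
      rw [MonoidHom.mem_ker, Subgroup.mem_subgroupOf]
      exact QuotientGroup.eq_one_iff _
    have hrange : g.range = (P : Subgroup G).map π := by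
      rw [MonoidHom.range_comp, Subgroup.range_subtype]
    have e := g.ker.index_mul_card
    rw [Subgroup.index_ker, hrange, hmap, hker, hPc] at e
    have e2 : Nat.card (N.subgroupOf (P : Subgroup G)) = Nat.card ↥((P : Subgroup G) ⊓ N) := by
      rw [← Subgroup.card_map_of_injective (P : Subgroup G).subtype_injective,
        Subgroup.subgroupOf_map_subtype, inf_comm]
    rw [← e2]
    omega
  have hsq : ∀ a ∈ (P : Subgroup G), a ^ 2 ∈ (P : Subgroup G) ⊓ N := by
    intro a ha
    refine ⟨pow_mem ha 2, ?_⟩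
    obtain ⟨k, hk⟩ := P.2 ⟨a, ha⟩
    refine h.sq_mem_of_pow k ?_
    rw [show a ^ 2 ^ k = 1 from congrArg Subtype.val hk]
    exact one_mem N
  have hcomm : ∀ a ∈ (P : Subgroup G), ∀ b ∈ (P : Subgroup G),
      ⁅a, b⁆ ∈ (P : Subgroup G) ⊓ N := by
    intro a ha b hb
    refine Subgroup.mem_inf.2 ⟨by rw [commutatorElement_def]; exact mul_mem (mul_mem (mul_mem ha hb) (inv_mem ha)) (inv_mem hb), ?_⟩
    rw [← QuotientGroup.eq_one_iff]
    show π ⁅a, b⁆ = 1
    rw [map_commutatorElement, commutatorElement_eq_one_iff_mul_comm]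
    have key : ∀ c ∈ (P : Subgroup G), π c * π c = 1 := fun c hc => by
      rw [← map_mul, ← sq]; exact (QuotientGroup.eq_one_iff _).2 (hsq c hc).2
    have hab := key _ (mul_mem ha hb)
    rw [map_mul] at hab
    have ea : π a = (π a)⁻¹ := eq_inv_of_mul_eq_one_left (key a ha)
    have eb : π b = (π b)⁻¹ := eq_inv_of_mul_eq_one_left (key b hb)
    calc π a * π b = (π a * π b)⁻¹ := eq_inv_of_mul_eq_one_left hab
      _ = π b * π a := by rw [mul_inv_rev, ← ea, ← eb]
  refine ⟨P, t, hP, rfl, hinf, hPc, hsq, hcomm, ?_⟩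
  refine exists_conj_eq h.card_centralizer P ((P : Subgroup G) ⊓ N) hP ?_ (by rw [hPc, hinf])
  intro w hw
  have hx : x ∈ (P : Subgroup G) := hP (Subgroup.mem_centralizer_singleton_iff.2 rfl)
  have := hcomm _ (inv_mem hx) _ hw
  rw [commutatorElement_def, inv_inv] at this
  simpa [mul_assoc] using this

theorem Ext.oddCore_le (h : Ext N x) : oddCore G ≤ N := by
  haveI : Fact (Nat.Prime 2) := ⟨Nat.prime_two⟩
  haveI := h.normal
  haveI := CfsgLib.Balance.oddCore_normal_inst (G := G) 2
  rcases h.simple (N ⊔ oddCore G) inferInstance le_sup_left with e | e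
  · exact le_sup_right.trans e.le
  · exfalso
    have hd : N.index ∣ Nat.card (oddCore G) := by
      have e2 : N.relIndex (oddCore G) = N.relIndex (N ⊔ oddCore G) := by
        rw [sup_comm, Subgroup.relIndex_sup_right]
      rw [e, Subgroup.relIndex_top_right] at e2
      rw [← e2]
      exact Subgroup.relIndex_dvd_card N (oddCore G)
    rw [h.card] at hd
    exact CfsgLib.Balance.pPrimeCore_not_dvd 2 G ((show 2 ∣ 60 by norm_num).trans hd)

/-- The case of an odd kernel. -/
theorem Ext.odd_case (h : Ext N x) (hodd : ¬ 2 ∣ Nat.card N) :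
    oddCore G = N ∧ orderOf x = 2 ∧ IsMulCommutative N := by
  haveI : Fact (Nat.Prime 2) := ⟨Nat.prime_two⟩
  haveI := h.normal
  have hcore : oddCore G = N := le_antisymm h.oddCore_le
    (le_sSup ⟨inferInstance, (Nat.prime_two.coprime_iff_not_dvd.2 hodd).symm⟩)
  have hx2 : x ^ 2 = 1 := by
    have h1 : (x ^ 2) ^ Nat.card N = 1 :=
      congrArg Subtype.val (pow_card_eq_one' (x := (⟨x ^ 2, h.sq_mem⟩ : N)))
    have h2 : (x ^ 2) ^ 2 = 1 := by rw [← pow_mul]; exact h.pow_four
    have h3 := pow_gcd_eq_one.mpr ⟨h1, h2⟩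
    rwa [Nat.Coprime.gcd_eq_one (Nat.prime_two.coprime_iff_not_dvd.2 hodd).symm, pow_one] at h3
  refine ⟨hcore, orderOf_eq_prime hx2 fun e => h.not_mem (e ▸ one_mem N), ⟨⟨fun a b => Subtype.ext ?_⟩⟩⟩
  refine commute_of_inverts (t := x) (fun n hn => ?_) a a.2 b b.2
  obtain ⟨g, hg⟩ := h.coset_conj hn
  have h1 : (x * n) ^ 2 = 1 := by rw [← hg, conj_pow, hx2]; group
  rw [sq] at h1 hx2
  have hxi : x⁻¹ = x := inv_eq_of_mul_eq_one_right hx2
  rw [hxi]
  exact eq_inv_of_mul_eq_one_left (by rwa [mul_assoc (x * n)])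

/-- The case of an even kernel. -/
theorem Ext.even_case (h : Ext N x) (heven : 2 ∣ Nat.card N) :
    orderOf x = 4 ∧ IsMulCommutative (oddCore G) ∧
      Nonempty (G ⧸ oddCore G ≃* CfsgLib.Frobenius.Zass.SL25) := by
  classical
  haveI : Fact (Nat.Prime 2) := ⟨Nat.prime_two⟩
  haveI := h.normal
  obtain ⟨P, t, hCP, htN, hTc, hPc, hsq, hcomm, hsurj⟩ := h.exists_sylow
  set T := (P : Subgroup G) ⊓ N with hT
  have ht : 0 < t := by
    rw [← htN]
    exact Nat.Prime.factorization_pos_of_dvd Nat.prime_two Nat.card_pos.ne' heven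
  have hxP : x ∈ (P : Subgroup G) := hCP (Subgroup.mem_centralizer_singleton_iff.2 rfl)
  -- the derived group of the Sylow subgroup
  have hD : commutator (P : Subgroup G) = T.subgroupOf (P : Subgroup G) := by
    apply le_antisymm
    · rw [commutator_def, Subgroup.commutator_le]
      intro a _ b _
      exact hcomm a a.2 b b.2
    · intro s hs
      obtain ⟨w, hw, hw'⟩ := hsurj s hs
      have e : s = ⁅(⟨x, hxP⟩ : (P : Subgroup G))⁻¹, ⟨w, hw⟩⁆ := by
        apply Subtype.ext
        simp only [commutatorElement_def, Subgroup.coe_mul, InvMemClass.coe_inv, inv_inv]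
        rw [mul_assoc (x⁻¹ * w), show x⁻¹ * w * (x * w⁻¹) = x⁻¹ * (w * x * w⁻¹) by group, hw']
        group
      rw [e]
      exact Subgroup.commutator_mem_commutator (Subgroup.mem_top _) (Subgroup.mem_top _)
  -- maximal class, so the intersection with `N` is cyclic
  have hKlein : IsKleinFour ((P : Subgroup G) ⧸ commutator (P : Subgroup G)) := by
    have hc : Nat.card ((P : Subgroup G) ⧸ commutator (P : Subgroup G)) = 4 := by
      have e := (commutator (P : Subgroup G)).card_eq_card_quotient_mul_card_subgroup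
      rw [hPc] at e
      have e2 : Nat.card (commutator (P : Subgroup G)) = 2 ^ t := by
        rw [hD, Nat.card_congr (Subgroup.subgroupOfEquivOfLe inf_le_left).toEquiv, hTc]
      rw [e2] at e
      exact (Nat.eq_of_mul_eq_mul_right (by positivity) e).symm
    refine ⟨hc, ?_⟩
    have h2 : ∀ q : (P : Subgroup G) ⧸ commutator (P : Subgroup G), q ^ 2 = 1 := by
      intro q
      obtain ⟨a, rfl⟩ := QuotientGroup.mk_surjective q
      rw [← QuotientGroup.mk_pow, QuotientGroup.eq_one_iff, hD]
      exact hsq a a.2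
    haveI : Nontrivial ((P : Subgroup G) ⧸ commutator (P : Subgroup G)) :=
      Finite.one_lt_card_iff_nontrivial.1 (by omega)
    exact ((Nat.dvd_prime Nat.prime_two).1 (Monoid.exponent_dvd_of_forall_pow_eq_one h2)).resolve_left
      fun e => not_subsingleton _ (Monoid.exp_eq_one_iff.1 e)
  have hPn : Nat.card (P : Subgroup G) = 2 ^ (t + 2) := by rw [hPc, pow_add]; ring
  obtain ⟨C, hCcyc, hCidx⟩ := Cfsg.Agent.S0113.result (t + 2) (by omega) hPn
    ((Cfsg.Agent.S0115.result (t + 2) (by omega) hPn).2 hKlein)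
  have hTcyc : IsCyclic T := by
    haveI := hCcyc
    haveI : C.Normal := Subgroup.normal_of_index_eq_two hCidx
    have hle : T.subgroupOf (P : Subgroup G) ≤ C := by
      rw [← hD, commutator_def, Subgroup.commutator_le]
      intro a _ b _
      haveI : IsCyclic ((P : Subgroup G) ⧸ C) := isCyclic_of_prime_card (p := 2)
        (by rw [← Subgroup.index_eq_card, hCidx])
      rw [← QuotientGroup.eq_one_iff]
      show QuotientGroup.mk' C ⁅a, b⁆ = 1
      rw [map_commutatorElement, commutatorElement_eq_one_iff_commute]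
      exact IsMulCommutative.is_comm.comm _ _
    haveI : IsCyclic (T.subgroupOf (P : Subgroup G)) :=
      isCyclic_of_injective (Subgroup.inclusion hle) (Subgroup.inclusion_injective hle)
    exact isCyclic_of_surjective (Subgroup.subgroupOfEquivOfLe (inf_le_left : T ≤ _))
      (Subgroup.subgroupOfEquivOfLe (inf_le_left : T ≤ _)).surjective
  obtain ⟨O, hOn, hON, hOcard, hOodd⟩ := exists_odd_complement N T inf_le_right hTcyc hTc ht htN
  haveI := hOn
  have hcore : oddCore G = O := by
    refine le_antisymm (fun a ha => ?_)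
      (le_sSup ⟨inferInstance, (Nat.prime_two.coprime_iff_not_dvd.2 hOodd).symm⟩)
    have haN := h.oddCore_le ha
    rw [← QuotientGroup.eq_one_iff]
    have h1 : ((a : G) : G ⧸ O) ^ Nat.card (oddCore G) = 1 := by
      rw [← QuotientGroup.mk_pow,
        show a ^ Nat.card (oddCore G) = 1 from
          congrArg Subtype.val (pow_card_eq_one' (x := (⟨a, ha⟩ : oddCore G)))]
      rfl
    have hNb : Nat.card ↥(N.map (QuotientGroup.mk' O)) = 2 ^ t := by
      let g : N →* G ⧸ O := (QuotientGroup.mk' O).comp N.subtype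
      have hk : g.ker = O.subgroupOf N := by
        ext n
        rw [MonoidHom.mem_ker, Subgroup.mem_subgroupOf]
        exact QuotientGroup.eq_one_iff _
      have e := g.ker.index_mul_card
      rw [Subgroup.index_ker, MonoidHom.range_comp, Subgroup.range_subtype, hk,
        Nat.card_congr (Subgroup.subgroupOfEquivOfLe hON).toEquiv, hOcard, mul_comm _ (2 ^ t)] at e
      exact Nat.eq_of_mul_eq_mul_right Nat.card_pos e
    have h2 : ((a : G) : G ⧸ O) ^ 2 ^ t = 1 := by
      rw [← hNb]
      exact congrArg Subtype.val (pow_card_eq_one'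
        (x := (⟨_, Subgroup.mem_map_of_mem (QuotientGroup.mk' O) haN⟩ : N.map (QuotientGroup.mk' O))))
    have h3 := pow_gcd_eq_one.mpr ⟨h1, h2⟩
    rwa [Nat.Coprime.gcd_eq_one, pow_one] at h3
    exact Nat.Coprime.pow_right _
      (Nat.prime_two.coprime_iff_not_dvd.2 (CfsgLib.Balance.pPrimeCore_not_dvd 2 G)).symm
  -- the image of `N` is central modulo `O`
  let π := QuotientGroup.mk' O
  have hPO : ∀ a ∈ (P : Subgroup G), a ∈ O → a = 1 := by
    intro a ha haO
    obtain ⟨k, hk⟩ := P.2 ⟨a, ha⟩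
    have h1 : a ^ 2 ^ k = 1 := congrArg Subtype.val hk
    have h2 : a ^ Nat.card O = 1 := congrArg Subtype.val (pow_card_eq_one' (x := (⟨a, haO⟩ : O)))
    have h3 := pow_gcd_eq_one.mpr ⟨h1, h2⟩
    rwa [Nat.Coprime.gcd_eq_one, pow_one] at h3
    exact Nat.Coprime.pow_left _ (Nat.prime_two.coprime_iff_not_dvd.2 hOodd)
  have hNmap : N.map π = T.map π := by
    refine (Subgroup.eq_of_le_of_card_ge (Subgroup.map_mono inf_le_right) ?_).symm
    have h1 : Nat.card ↥(T.map π) = 2 ^ t := by
      rw [← hTc]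
      exact (Nat.card_congr (Equiv.ofBijective
        (fun a : T => (⟨π a, Subgroup.mem_map_of_mem π a.2⟩ : T.map π))
        ⟨fun a b hab => Subtype.ext (by
            have e : π (a : G) = π b := congrArg Subtype.val hab
            have : ((a : G)⁻¹ * b) ∈ O := QuotientGroup.eq.1 e
            exact inv_mul_eq_one.1 (hPO _ (mul_mem (inv_mem a.2.1) b.2.1) this)),
          fun y => by
            obtain ⟨a, ha, he⟩ := y.2
            exact ⟨⟨a, ha⟩, Subtype.ext he⟩⟩)).symm
    rw [h1]
    let g : N →* G ⧸ O := π.comp N.subtype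
    have e := g.ker.index_mul_card
    have hk : g.ker = O.subgroupOf N := by
      ext n
      rw [MonoidHom.mem_ker, Subgroup.mem_subgroupOf]
      exact QuotientGroup.eq_one_iff _
    rw [Subgroup.index_ker, MonoidHom.range_comp, Subgroup.range_subtype, hk,
      Nat.card_congr (Subgroup.subgroupOfEquivOfLe hON).toEquiv, hOcard, mul_comm _ (2 ^ t)] at e
    exact (Nat.eq_of_mul_eq_mul_right Nat.card_pos e).le
  haveI hNn' : (N.map π).Normal := Subgroup.Normal.map inferInstance π (QuotientGroup.mk'_surjective O)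
  haveI hNc : IsCyclic ↥(N.map π) := by
    rw [hNmap]
    haveI := hTcyc
    exact isCyclic_of_surjective (π.subgroupMap T) (π.subgroupMap_surjective T)
  have hcentral : ∀ g : G ⧸ O, ∀ n ∈ N.map π, g * n = n * g := by
    intro g n hn
    let χ : G ⧸ O →* MulAut ↥(N.map π) := MulAut.conjNormal
    have hp := CfsgLib.Frobenius.Zass.commutator_quotient h.perfect O
    let e := IsCyclic.mulAutMulEquiv ↥(N.map π)
    have hg : g ∈ χ.ker := by
      refine (le_top.trans hp.ge).trans (?_ : commutator (G ⧸ O) ≤ χ.ker) (Subgroup.mem_top g)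
      rw [commutator_def, Subgroup.commutator_le]
      intro a _ b _
      rw [MonoidHom.mem_ker, map_commutatorElement, commutatorElement_eq_one_iff_mul_comm]
      exact e.injective (by rw [map_mul, map_mul, mul_comm])
    have := congrArg Subtype.val (DFunLike.congr_fun (MonoidHom.mem_ker.1 hg) ⟨n, hn⟩)
    simp only [χ, MulAut.conjNormal_apply, MulAut.one_apply] at this
    exact mul_inv_eq_iff_eq_mul.1 this
  -- `T` has order two
  have hT2 : ∀ s ∈ T, s * s = 1 := by
    intro s hs
    obtain ⟨w, hw, hw'⟩ := hsurj s hs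
    refine hPO _ (mul_mem hs.1 hs.1) ?_
    rw [← QuotientGroup.eq_one_iff]
    show π (s * s) = 1
    have hx2 : π x * π x ∈ N.map π := by
      rw [← map_mul, ← sq]; exact Subgroup.mem_map_of_mem π h.sq_mem
    have hs' : π s ∈ N.map π := Subgroup.mem_map_of_mem π hs.2
    have e : π w * π x * (π w)⁻¹ = π x * π s := by rw [← map_inv, ← map_mul, ← map_mul, hw', map_mul]
    have e1 : π w * (π x * π x) * (π w)⁻¹ = π x * π x * (π s * π s) := by
      calc π w * (π x * π x) * (π w)⁻¹
          = (π w * π x * (π w)⁻¹) * (π w * π x * (π w)⁻¹) := by group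
        _ = π x * (π s * π x) * π s := by rw [e]; group
        _ = π x * (π x * π s) * π s := by rw [← hcentral (π x) _ hs']
        _ = _ := by group
    rw [hcentral (π w) _ hx2, mul_inv_cancel_right] at e1
    rw [map_mul]
    exact mul_eq_left.1 e1.symm
  have ht1 : t = 1 := by
    haveI := hTcyc
    obtain ⟨g, hg⟩ := IsCyclic.exists_generator (α := T)
    have h1 : orderOf g = 2 ^ t := by
      rw [orderOf_eq_card_of_forall_mem_zpowers hg, hTc]
    have h2 : orderOf g ∣ 2 := orderOf_dvd_of_pow_eq_one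
      (Subtype.ext (by rw [sq, Subgroup.coe_mul]; exact hT2 g g.2))
    rw [h1] at h2
    have h3 := Nat.le_of_dvd (by norm_num) h2
    by_contra hh
    have : 2 ^ 2 ≤ 2 ^ t := Nat.pow_le_pow_right (by norm_num) (by omega)
    omega
  subst ht1
  -- all elements outside `T` have order four
  have hpow : ∀ a ∈ (P : Subgroup G), a ∉ T → ∃ g, a = g * x * g⁻¹ := by
    intro a ha hna
    obtain ⟨g, hg⟩ := h.conj a (fun e => hna ⟨ha, e⟩) (hsq a ha).2
    obtain ⟨k, hk⟩ := h.coset_conj (n := g⁻¹ * ((g * x * g⁻¹)⁻¹ * a) * g)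
      (by simpa using Subgroup.Normal.conj_mem inferInstance _ hg g⁻¹)
    refine ⟨g * k, ?_⟩
    calc a = g * (x * (g⁻¹ * ((g * x * g⁻¹)⁻¹ * a) * g)) * g⁻¹ := by group
      _ = _ := by rw [← hk]; group
  have hxT : x ∉ T := fun e => h.not_mem e.2
  have hx2 : x * x ≠ 1 := by
    intro hx2
    have hall : ∀ a : (P : Subgroup G), a * a = 1 := by
      intro a
      apply Subtype.ext
      rw [Subgroup.coe_mul]
      by_cases ha : (a : G) ∈ T
      · exact hT2 a ha
      · obtain ⟨g, hg⟩ := hpow a a.2 ha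
        rw [hg, show g * x * g⁻¹ * (g * x * g⁻¹) = g * (x * x) * g⁻¹ by group, hx2]
        group
        rfl
    have hab : ∀ a b : (P : Subgroup G), a * b = b * a := fun a b => by
      calc a * b = (a * b)⁻¹ := eq_inv_of_mul_eq_one_left (hall _)
        _ = b * a := by rw [mul_inv_rev, ← eq_inv_of_mul_eq_one_left (hall a),
          ← eq_inv_of_mul_eq_one_left (hall b)]
    have hbot : commutator (P : Subgroup G) = ⊥ := by
      rw [eq_bot_iff, commutator_def, Subgroup.commutator_le]
      intro a _ b _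
      rw [Subgroup.mem_bot, commutatorElement_eq_one_iff_mul_comm]
      exact hab a b
    have := congrArg (fun H : Subgroup (P : Subgroup G) => Nat.card H) (hD.symm.trans hbot)
    simp only [Subgroup.card_bot] at this
    rw [Nat.card_congr (Subgroup.subgroupOfEquivOfLe (inf_le_left : T ≤ _)).toEquiv, hTc] at this
    norm_num at this
  have hord : orderOf x = 4 :=
    orderOf_eq_prime_pow (p := 2) (n := 1) (by simpa [sq] using hx2) (by simpa using h.pow_four)
  -- the square of `x` generates `T`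
  have hxxT : x * x ∈ T := by rw [← sq]; exact hsq x hxP
  have hTeq : ∀ s ∈ T, s = 1 ∨ s = x * x := by
    intro s hs
    by_contra! hc
    haveI := Fintype.ofFinite T
    have : ({⟨1, one_mem T⟩, ⟨x * x, hxxT⟩, ⟨s, hs⟩} : Finset T).card = 3 :=
      Finset.card_eq_three.2 ⟨_, _, _, fun e => hx2 (congrArg Subtype.val e).symm,
        fun e => hc.1 (congrArg Subtype.val e).symm, fun e => hc.2 (congrArg Subtype.val e).symm, rfl⟩
    have h3 := Finset.card_le_univ ({⟨1, one_mem T⟩, ⟨x * x, hxxT⟩, ⟨s, hs⟩} : Finset T)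
    rw [← Nat.card_eq_fintype_card, hTc] at h3
    omega
  have hzero : ∀ a : (P : Subgroup G), a * a = 1 → a = 1 ∨ (a : G) = x * x := by
    intro a ha
    by_cases haT : (a : G) ∈ T
    · exact (hTeq a haT).imp_left (fun e => Subtype.ext e)
    · exfalso
      obtain ⟨g, hg⟩ := hpow a a.2 haT
      have := congrArg Subtype.val ha
      rw [Subgroup.coe_mul, hg, show g * x * g⁻¹ * (g * x * g⁻¹) = g * (x * x) * g⁻¹ by group,
        OneMemClass.coe_one, mul_inv_eq_one, mul_eq_left] at this
      exact hx2 this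
  -- the Sylow subgroup is quaternion
  have hQ : Nonempty ((P : Subgroup G) ≃* QuaternionGroup 2) := by
    let r : (P : Subgroup G) := ⟨x, hxP⟩
    have hr : orderOf r = 4 := by rw [Subgroup.orderOf_mk, hord]
    obtain ⟨s, hs⟩ : ∃ s : (P : Subgroup G), s ∉ Subgroup.zpowers r := by
      by_contra! hall
      have : Nat.card (P : Subgroup G) = 4 := by
        rw [← hr, orderOf_eq_card_of_forall_mem_zpowers hall]
      omega
    have hsq' : ∀ a : (P : Subgroup G), a * a = 1 ∨ a * a = r * r := fun a => by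
      have := hTeq _ (show (a : G) * a ∈ T by rw [← sq]; exact hsq a a.2)
      exact this.imp (fun e => Subtype.ext e) (fun e => Subtype.ext e)
    have hmem : ∀ a : (P : Subgroup G), a * a = 1 → a ∈ Subgroup.zpowers r := fun a ha => by
      rcases hzero a ha with e | e
      · rw [e]; exact one_mem _
      · rw [show a = r * r from Subtype.ext e]
        exact mul_mem (Subgroup.mem_zpowers r) (Subgroup.mem_zpowers r)
    have hs2 : s * s = r * r := (hsq' s).resolve_left fun e => hs (hmem s e)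
    have hrs : s * r * s⁻¹ = r⁻¹ := by
      have hsr : s * r ∉ Subgroup.zpowers r := fun e => hs (by
        simpa using mul_mem e (inv_mem (Subgroup.mem_zpowers r)))
      have h2 : s * r * (s * r) = s * s := ((hsq' (s * r)).resolve_left fun e => hsr (hmem _ e)).trans hs2.symm
      have h3 : r * s * r = s := mul_left_cancel (a := s) (by rw [← h2]; group)
      have h4 : r * (s * r * s⁻¹) = 1 := by
        rw [← mul_assoc, ← mul_assoc, h3, mul_inv_cancel]
      exact eq_inv_of_mul_eq_one_right h4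
    exact Cfsg.Agent.S3157.equiv_quaternion (by rw [hPc]; norm_num) r s hr hs hrs hs2
  -- the quotient by `O`
  have hGO : Nat.card (G ⧸ O) = 120 := by
    have e1 := N.index_mul_card
    have e2 := O.card_eq_card_quotient_mul_card_subgroup
    rw [h.card, hOcard] at e1
    rw [← e1] at e2
    have := Nat.card_pos (α := O)
    nlinarith
  have hSL : Nonempty (G ⧸ O ≃* CfsgLib.Frobenius.Zass.SL25) := by
    refine CfsgLib.Frobenius.Zass.sl25_of_perfect hGO
      (CfsgLib.Frobenius.Zass.commutator_quotient h.perfect O) fun S => ?_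
    obtain ⟨P', hP'⟩ := Sylow.mapSurjective_surjective (f := QuotientGroup.mk' O)
      (QuotientGroup.mk'_surjective O) 2 S
    obtain ⟨e0⟩ : Nonempty ((P : Subgroup G) ≃* (P' : Subgroup G)) := ⟨P.equiv P'⟩
    obtain ⟨eq⟩ := hQ
    let g : (P' : Subgroup G) →* (S : Subgroup (G ⧸ O)) :=
      (π.comp (P' : Subgroup G).subtype).codRestrict _ fun a => by
        rw [← hP', Sylow.coe_mapSurjective]
        exact Subgroup.mem_map_of_mem π a.2
    have hg : Function.Bijective g := by
      constructor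
      · rw [injective_iff_map_eq_one]
        intro a ha
        have haO : (a : G) ∈ O := (QuotientGroup.eq_one_iff _).1 (congrArg Subtype.val ha)
        obtain ⟨k, hk⟩ := P'.2 a
        have h1 : (a : G) ^ 2 ^ k = 1 := congrArg Subtype.val hk
        have h2 : (a : G) ^ Nat.card O = 1 :=
          congrArg Subtype.val (pow_card_eq_one' (x := (⟨a, haO⟩ : O)))
        have h3 := pow_gcd_eq_one.mpr ⟨h1, h2⟩
        rw [Nat.Coprime.gcd_eq_one
          (Nat.Coprime.pow_left _ (Nat.prime_two.coprime_iff_not_dvd.2 hOodd)), pow_one] at h3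
        exact Subtype.ext h3
      · rintro ⟨b, hb⟩
        rw [← hP', Sylow.coe_mapSurjective] at hb
        obtain ⟨a, ha, he⟩ := hb
        exact ⟨⟨a, ha⟩, Subtype.ext he⟩
    exact ⟨(MulEquiv.ofBijective g hg).symm.trans (e0.symm.trans eq)⟩
  -- `x ^ 2` inverts `O`
  set z := x * x with hz
  have hzN : z ∈ N := hxxT.2
  have hzC : ∀ c : G, (∀ s ∈ T, c * s * c⁻¹ ∈ T) → c * z = z * c := by
    intro c hc
    rcases hTeq _ (hc z hxxT) with e | e
    · rw [mul_inv_eq_one, mul_eq_left] at e
      exact absurd e hx2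
    · exact mul_inv_eq_iff_eq_mul.1 e
  let D : Subgroup G := O ⊓ Subgroup.centralizer ({z} : Set G)
  have hDmem : ∀ d, d ∈ D ↔ d ∈ O ∧ d * z = z * d := fun d => by
    rw [Subgroup.mem_inf, Subgroup.mem_centralizer_singleton_iff]
  have hxz : x * z = z * x := by rw [hz]; group
  have hDx : ∀ d ∈ D, x * d * x⁻¹ = d⁻¹ := by
    refine inverts_of_fixedPointFree ?_ ?_ ?_ ?_
    · exact fun e => hOodd (e.trans (Subgroup.card_dvd_of_le inf_le_left))
    · intro d hd
      obtain ⟨hd1, hd2⟩ := (hDmem d).1 hd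
      refine (hDmem _).2 ⟨Subgroup.Normal.conj_mem inferInstance _ hd1 x, ?_⟩
      calc x * d * x⁻¹ * z = x * d * (x⁻¹ * (z * x)) * x⁻¹ := by group
        _ = x * (d * z) * x⁻¹ := by rw [← hxz]; group
        _ = x * z * d * x⁻¹ := by rw [hd2]; group
        _ = z * (x * d * x⁻¹) := by rw [hxz]; group
    · intro d hd
      calc x * (x * d * x⁻¹) * x⁻¹ = z * d * z⁻¹ := by rw [hz]; group
        _ = d := by rw [← ((hDmem d).1 hd).2]; group
    · intro d hd hfix
      have hdC : d ∈ Subgroup.centralizer ({x} : Set G) :=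
        Subgroup.mem_centralizer_singleton_iff.2 (mul_inv_eq_iff_eq_mul.1 hfix).symm
      exact hPO d (hCP hdC) ((hDmem d).1 hd).1
  have hDbot : ∀ d ∈ D, d = 1 := by
    let C : Subgroup G := Subgroup.centralizer ({z} : Set G)
    have hCcov : ∀ g : G, ∃ c ∈ C, c⁻¹ * g ∈ N := by
      intro g
      obtain ⟨S, hS⟩ := (IsPGroup.of_card (n := 1) (by
        rw [Nat.card_congr (Subgroup.subgroupOfEquivOfLe (inf_le_right : T ≤ N)).toEquiv, hTc]) :
          IsPGroup 2 (T.subgroupOf N)).exists_le_sylow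
      have hSc : Nat.card (S : Subgroup N) = 2 ^ 1 := by rw [S.card_eq_multiplicity, htN]
      have hST : (S : Subgroup N) = T.subgroupOf N := (Subgroup.eq_of_le_of_card_ge hS (by
        rw [hSc, Nat.card_congr (Subgroup.subgroupOfEquivOfLe (inf_le_right : T ≤ N)).toEquiv,
          hTc])).symm
      have hg : g ∈ Subgroup.normalizer (((S : Subgroup N).map N.subtype : Subgroup G) : Set G) ⊔ N := by
        rw [Sylow.normalizer_sup_eq_top S]
        trivial
      rw [Subgroup.mem_sup_of_normal_right, hST, Subgroup.subgroupOf_map_subtype,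
        inf_eq_left.2 (inf_le_right : T ≤ N)] at hg
      obtain ⟨c, hc, n, hn, rfl⟩ := hg
      refine ⟨c, Subgroup.mem_centralizer_singleton_iff.2 (hzC c fun s hs => ?_), by
        simpa using hn⟩
      exact (Subgroup.mem_normalizer_iff.1 hc s).1 hs
    let H : Subgroup G := C ⊓ Subgroup.centralizer (D : Set G)
    have hHmem : ∀ c, c ∈ H ↔ c * z = z * c ∧ ∀ d ∈ D, d * c = c * d := fun c => by
      rw [Subgroup.mem_inf, Subgroup.mem_centralizer_singleton_iff, Subgroup.mem_centralizer_iff]
      rfl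
    have hDn : ∀ c ∈ C, ∀ d ∈ D, c * d * c⁻¹ ∈ D := by
      intro c hc d hd
      obtain ⟨hd1, hd2⟩ := (hDmem d).1 hd
      have hc' := Subgroup.mem_centralizer_singleton_iff.1 hc
      refine (hDmem _).2 ⟨Subgroup.Normal.conj_mem inferInstance _ hd1 c, ?_⟩
      calc c * d * c⁻¹ * z = c * d * (c⁻¹ * (z * c)) * c⁻¹ := by group
        _ = c * (d * z) * c⁻¹ := by rw [← hc']; group
        _ = c * z * d * c⁻¹ := by rw [hd2]; group
        _ = z * (c * d * c⁻¹) := by rw [hc']; group
    have hxC : x ∈ C := Subgroup.mem_centralizer_singleton_iff.2 hxz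
    have hcx : ∀ c ∈ C, ⁅c, x⁆ ∈ H := by
      intro c hc
      refine Subgroup.mem_inf.2 ⟨?_, ?_⟩
      · rw [commutatorElement_def]
        exact mul_mem (mul_mem (mul_mem hc hxC) (inv_mem hc)) (inv_mem hxC)
      · rw [Subgroup.mem_centralizer_iff]
        intro d hd
        have h1 : ∀ e ∈ D, x⁻¹ * e * x = e⁻¹ := fun e he => by
          have := hDx _ (inv_mem he)
          rw [inv_inv] at this
          conv_lhs => rw [← this]
          group
        have h2 : c⁻¹ * d⁻¹ * c ∈ D := by simpa using hDn c⁻¹ (inv_mem hc) _ (inv_mem hd)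
        have h3 := hDx _ h2
        rw [show (c⁻¹ * d⁻¹ * c)⁻¹ = c⁻¹ * d * c by group] at h3
        have h4 : ⁅c, x⁆ * d * ⁅c, x⁆⁻¹ = d := by
          rw [commutatorElement_def]
          calc c * x * c⁻¹ * x⁻¹ * d * (c * x * c⁻¹ * x⁻¹)⁻¹
              = c * (x * (c⁻¹ * (x⁻¹ * d * x) * c) * x⁻¹) * c⁻¹ := by group
            _ = c * (c⁻¹ * d * c) * c⁻¹ := by rw [h1 d hd, h3]
            _ = d := by group
        exact (mul_inv_eq_iff_eq_mul.1 h4).symm
    let πN := QuotientGroup.mk' N
    haveI hHn : (H.map πN).Normal := by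
      refine ⟨?_⟩
      rintro _ ⟨b, hb, rfl⟩ q
      obtain ⟨g, rfl⟩ := QuotientGroup.mk'_surjective N q
      obtain ⟨c, hc, hcn⟩ := hCcov g
      have e : πN g = πN c := (QuotientGroup.eq.2 hcn).symm
      rw [e, ← map_inv, ← map_mul, ← map_mul]
      refine Subgroup.mem_map_of_mem πN ((hHmem _).2 ⟨?_, fun d hd => ?_⟩)
      · exact Subgroup.mem_centralizer_singleton_iff.1 (mul_mem (mul_mem hc hb.1) (inv_mem hc))
      · have h1 : c⁻¹ * d * c ∈ D := by simpa using hDn c⁻¹ (inv_mem hc) d hd
        have h2 := ((hHmem b).1 hb).2 _ h1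
        calc d * (c * b * c⁻¹) = c * ((c⁻¹ * d * c) * b) * c⁻¹ := by group
          _ = c * (b * (c⁻¹ * d * c)) * c⁻¹ := by rw [h2]
          _ = _ := by group
    have hHtop : H.map πN = ⊤ := by
      rcases h.simple ((H.map πN).comap πN) inferInstance
        (fun a ha => by
          rw [Subgroup.mem_comap, show πN a = 1 from (QuotientGroup.eq_one_iff a).2 ha]
          exact one_mem _) with e | e
      · exfalso
        have hall : ∀ g : G, ⁅g, x⁆ ∈ N := by
          intro g
          obtain ⟨c, hc, hcn⟩ := hCcov g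
          have : ⁅c, x⁆ ∈ (H.map πN).comap πN := Subgroup.mem_map_of_mem πN (hcx c hc)
          rw [e, ← QuotientGroup.eq_one_iff] at this
          rw [← QuotientGroup.eq_one_iff]
          change πN ⁅g, x⁆ = 1
          change πN ⁅c, x⁆ = 1 at this
          rw [map_commutatorElement] at this ⊢
          rwa [show πN g = πN c from (QuotientGroup.eq.2 hcn).symm]
        let Z : Subgroup G := (Subgroup.center (G ⧸ N)).comap πN
        have hxZ : x ∈ Z := by
          rw [Subgroup.mem_comap, Subgroup.mem_center_iff]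
          intro q
          obtain ⟨g, rfl⟩ := QuotientGroup.mk'_surjective N q
          rw [← commutatorElement_eq_one_iff_mul_comm, ← map_commutatorElement]
          exact (QuotientGroup.eq_one_iff _).2 (hall g)
        rcases h.simple Z inferInstance (fun a ha => by
          rw [Subgroup.mem_comap, show πN a = 1 from (QuotientGroup.eq_one_iff a).2 ha]
          exact one_mem _) with e' | e'
        · exact h.not_mem (e' ▸ hxZ)
        · have hle : commutator G ≤ N := by
            rw [commutator_def, Subgroup.commutator_le]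
            intro a _ b _
            rw [← QuotientGroup.eq_one_iff]
            show πN ⁅a, b⁆ = 1
            rw [map_commutatorElement, commutatorElement_eq_one_iff_mul_comm]
            have hb : b ∈ Z := e' ▸ Subgroup.mem_top b
            exact Subgroup.mem_center_iff.1 hb _
          rw [h.perfect] at hle
          exact h.not_mem (hle (Subgroup.mem_top x))
      · have := congrArg (Subgroup.map πN) e
        rwa [Subgroup.map_comap_eq_self_of_surjective (QuotientGroup.mk'_surjective N),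
          Subgroup.map_top_of_surjective _ (QuotientGroup.mk'_surjective N)] at this
    intro d hd
    obtain ⟨b, hb, hbx⟩ := (hHtop.symm ▸ Subgroup.mem_top (πN x) : πN x ∈ H.map πN)
    have hm : b⁻¹ * x ∈ N := QuotientGroup.eq.1 hbx
    -- `b⁻¹ * x` centralizes `D`
    have hmC : (b⁻¹ * x) * z = z * (b⁻¹ * x) :=
      Subgroup.mem_centralizer_singleton_iff.1 (mul_mem (inv_mem hb.1) hxC)
    obtain ⟨s, hs, o, ho, hso⟩ : ∃ s ∈ T, ∃ o ∈ O, s * o = b⁻¹ * x := by
      have : π (b⁻¹ * x) ∈ T.map π := hNmap ▸ Subgroup.mem_map_of_mem π hm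
      obtain ⟨s, hs, e⟩ := this
      exact ⟨s, hs, s⁻¹ * (b⁻¹ * x), QuotientGroup.eq.1 e, by group⟩
    have hsC : ∀ e ∈ D, e * s = s * e := by
      intro e he
      rcases hTeq s hs with rfl | rfl
      · simp
      · exact ((hDmem e).1 he).2
    have hsz : s * z = z * s := by rcases hTeq s hs with rfl | rfl <;> simp
    have hoD : o ∈ D := (hDmem o).2 ⟨ho, by
      apply mul_left_cancel (a := s)
      rw [← mul_assoc, hso, hmC, ← hso, ← mul_assoc, ← hsz, mul_assoc]⟩
    have hcomm' : d * (b⁻¹ * x) = b⁻¹ * x * d := by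
      rw [← hso, ← mul_assoc, hsC d hd, mul_assoc,
        commute_of_inverts hDx d hd o hoD, ← mul_assoc]
    have hbd : d * b = b * d := ((hHmem b).1 hb).2 d hd
    have hxd : x * d * x⁻¹ = d := by
      have e : d * x = x * d := by
        calc d * x = d * b * (b⁻¹ * x) := by group
          _ = b * (d * (b⁻¹ * x)) := by rw [hbd]; group
          _ = x * d := by rw [hcomm']; group
      rw [← e, mul_inv_cancel_right]
    have hdd : d * d = 1 := by
      rw [mul_eq_one_iff_eq_inv]
      exact hxd.symm.trans (hDx d hd)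
    by_contra hd1
    apply hOodd
    have : orderOf d = 2 := orderOf_eq_prime (by rw [sq]; exact hdd) hd1
    rw [← this]
    exact Subgroup.orderOf_dvd_natCard O ((hDmem d).1 hd).1
  have hOab : IsMulCommutative O := by
    refine ⟨⟨fun a b => Subtype.ext ?_⟩⟩
    refine commute_of_inverts (t := z) (inverts_of_fixedPointFree hOodd
      (fun d hd => Subgroup.Normal.conj_mem inferInstance _ hd z) ?_ ?_) a a.2 b b.2
    · intro d _
      have : z * z = 1 := hT2 z hxxT
      calc z * (z * d * z⁻¹) * z⁻¹ = (z * z) * d * (z * z)⁻¹ := by group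
        _ = d := by rw [this]; group
    · intro d hd hfix
      exact hDbot d ((hDmem d).2 ⟨hd, (mul_inv_eq_iff_eq_mul.1 hfix).symm⟩)
  obtain rfl := hcore
  exact ⟨hord, hOab, hSL⟩

end CfsgLib.ConstantFour
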